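import Mathlib.RingTheory.Smooth.Quotient
import Mathlib.RingTheory.RingHom.Flat
import Mathlib.RingTheory.Ideal.Quotient.Nilpotent
import Mathlib.RingTheory.Flat.Stability
import Mathlib.RingTheory.TensorProduct.Quotient

/-!
# Formal smoothness of flat algebras modulo a nilpotent ideal

* `formallySmooth_of_nilpotent`: `f : R →+* S` flat, `I` a nilpotent ideal of `R`, `R/I → S/IS` formally
  smooth; then `f` is formally smooth.
* `formallySmooth_of_surjective_of_nilpotent`: the version with arbitrary surjections.
-/

set_option autoImplicit false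

universe u v

open TensorProduct

namespace K683.FSNilp

theorem flat_quotient {R : Type v} {S : Type u} [CommRing R] [CommRing S] [Algebra R S]
    [Module.Flat R S] (I : Ideal R) : Module.Flat (R ⧸ I) (S ⧸ I.map (algebraMap R S)) :=
  Module.Flat.of_linearEquiv
    (Algebra.TensorProduct.quotIdealMapEquivQuotTensor S I).toLinearEquiv

theorem flat_quotientMap {R : Type v} {S : Type u} [CommRing R] [CommRing S] (τ : R →+* S)
    (hτ : τ.Flat) (I : Ideal R) :
    (Ideal.quotientMap (I.map τ) τ Ideal.le_comap_map).Flat := by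
  algebraize [τ]
  have h1 := flat_quotient (R := R) (S := S) I
  have h2 : algebraMap (R ⧸ I) (S ⧸ I.map (algebraMap R S)) =
      Ideal.quotientMap (I.map τ) τ Ideal.le_comap_map :=
    Ideal.Quotient.ringHom_ext rfl
  rw [← RingHom.flat_algebraMap_iff, h2] at h1
  exact h1

/-- Version of the lifting criterion with arbitrary surjections. -/
theorem formallySmooth_of_surjective_of_nilpotent {R : Type u} [CommRing R] (I : Ideal R)
    (hI : IsNilpotent I) :
    ∀ {R' : Type u} {S S' : Type u} [CommRing R'] [CommRing S] [CommRing S'] (f : R →+* S) (_ : f.Flat)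
      (qR : R →+* R') (qS : S →+* S') (g : R' →+* S') (_ : Function.Surjective qR)
      (_ : Function.Surjective qS) (_ : qS.comp f = g.comp qR) (_ : RingHom.ker qR = I)
      (_ : RingHom.ker qS = I.map f) (_ : g.FormallySmooth), f.FormallySmooth := by
  apply Ideal.IsNilpotent.induction_on (S := R) I hI
    (P := fun R _ I => ∀ {R' : Type u} {S S' : Type u} [CommRing R'] [CommRing S] [CommRing S']
      (f : R →+* S) (_ : f.Flat)
      (qR : R →+* R') (qS : S →+* S') (g : R' →+* S') (_ : Function.Surjective qR)
      (_ : Function.Surjective qS) (_ : qS.comp f = g.comp qR) (_ : RingHom.ker qR = I)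
      (_ : RingHom.ker qS = I.map f) (_ : g.FormallySmooth), f.FormallySmooth)
  · intro R _ I hI R' S S' _ _ _ f hf qR qS g hR hS hc h1 h2 hg
    exact RingHom.FormallySmooth.of_flat_of_ker_eq_map_of_square_zero f hf qR qS g hR hS hc
      (by rw [h1, hI]) (by rw [h1, h2]) hg
  · intro R _ I J hIJ hPI hPJ R' S S' _ _ _ f hf qR qS g hR hS hc h1 h2 hg
    refine hPI f hf (Ideal.Quotient.mk I) (Ideal.Quotient.mk (I.map f))
      (Ideal.quotientMap (I.map f) f Ideal.le_comap_map) Ideal.Quotient.mk_surjective
      Ideal.Quotient.mk_surjective ?_ Ideal.mk_ker Ideal.mk_ker ?_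
    · ext x; simp
    · have hIq : I ≤ RingHom.ker qR := by rw [h1]; exact hIJ
      have hIq' : I.map f ≤ RingHom.ker qS := by rw [h2]; exact Ideal.map_mono hIJ
      refine hPJ (Ideal.quotientMap (I.map f) f Ideal.le_comap_map) (flat_quotientMap f hf I)
        (Ideal.Quotient.lift I qR hIq) (Ideal.Quotient.lift (I.map f) qS hIq') g
        (Ideal.Quotient.lift_surjective_of_surjective _ _ hR)
        (Ideal.Quotient.lift_surjective_of_surjective _ _ hS) ?_ ?_ ?_ hg
      · refine Ideal.Quotient.ringHom_ext ?_
        ext x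
        simpa using! RingHom.congr_fun hc x
      · rw [Ideal.ker_quotient_lift, h1]
      · rw [Ideal.ker_quotient_lift, h2, Ideal.map_map, Ideal.map_map]
        congr 1

theorem formallySmooth_of_nilpotent {R S : Type u} [CommRing R] [CommRing S] [Algebra R S]
    [Module.Flat R S] (I : Ideal R) (hI : IsNilpotent I)
    (h : Algebra.FormallySmooth (R ⧸ I) (S ⧸ I.map (algebraMap R S))) :
    Algebra.FormallySmooth R S := by
  rw [← RingHom.formallySmooth_algebraMap] at h ⊢
  refine formallySmooth_of_surjective_of_nilpotent I hI (algebraMap R S)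
    (RingHom.flat_algebraMap_iff.2 inferInstance) (Ideal.Quotient.mk I)
    (Ideal.Quotient.mk _) _ Ideal.Quotient.mk_surjective Ideal.Quotient.mk_surjective ?_
    Ideal.mk_ker Ideal.mk_ker h
  ext x
  rfl

end K683.FSNilp
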