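import Groth.Agent.Deform.K683.FSNilp
import Mathlib.RingTheory.Smooth.Kaehler
import Mathlib.RingTheory.Smooth.Basic
import Mathlib.Algebra.TrivSqZeroExt.Basic
import Mathlib.RingTheory.Kaehler.Basic
import Mathlib.RingTheory.Polynomial.Quotient

/-!
# Flat algebras over truncated polynomial rings with smooth central fibre
-/

set_option autoImplicit false

universe u

open TensorProduct Polynomial

namespace K683.TruncPoly

variable {k : Type u} [Field k] {n : ℕ} {D : Type u} [CommRing D] [Algebra k D] {τ : D}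

section D

variable (e : (k[X] ⧸ Ideal.span {(X : k[X]) ^ (n + 1)}) ≃ₐ[k] D)
    (he : e (Ideal.Quotient.mk (Ideal.span {(X : k[X]) ^ (n + 1)}) X) = τ)

include he

theorem tau_pow : τ ^ (n + 1) = 0 := by
  rw [← he, ← map_pow, ← map_pow, Ideal.Quotient.eq_zero_iff_mem.2 (Ideal.mem_span_singleton_self _),
    map_zero]

theorem exists_aeval (a : D) : ∃ p : k[X], a = aeval τ p := by
  obtain ⟨p, hp⟩ := Ideal.Quotient.mk_surjective (e.symm a)
  refine ⟨p, ?_⟩
  have h1 : (e.toAlgHom.comp (Ideal.Quotient.mkₐ k (Ideal.span {(X : k[X]) ^ (n + 1)}))) = aeval τ := by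
    ext
    simpa using! he
  have h2 := AlgHom.congr_fun h1 p
  rw [← h2]
  change a = e (Ideal.Quotient.mk _ p)
  rw [hp, AlgEquiv.apply_symm_apply]

theorem exists_hom {E : Type*} [CommRing E] [Algebra k E] (s : E) (hs : s ^ (n + 1) = 0) :
    ∃ φ : D →ₐ[k] E, φ τ = s := by
  have h0 : ∀ a ∈ Ideal.span {(X : k[X]) ^ (n + 1)}, aeval s a = 0 := by
    intro a ha
    obtain ⟨b, rfl⟩ := Ideal.mem_span_singleton.1 ha
    simp [hs]
  refine ⟨(Ideal.Quotient.liftₐ (Ideal.span {(X : k[X]) ^ (n + 1)}) (aeval s) h0).comp e.symm.toAlgHom, ?_⟩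
  have : e.symm τ = Ideal.Quotient.mk (Ideal.span {(X : k[X]) ^ (n + 1)}) X := by
    rw [← he, AlgEquiv.symm_apply_apply]
  change (Ideal.Quotient.liftₐ (Ideal.span {(X : k[X]) ^ (n + 1)}) (aeval s) h0) (e.symm τ) = s
  rw [this]
  exact aeval_X s

theorem hom_ext {E : Type*} [CommRing E] [Algebra k E] (φ ψ : D →ₐ[k] E) (h : φ τ = ψ τ) : φ = ψ := by
  ext a
  obtain ⟨p, rfl⟩ := exists_aeval e he a
  rw [← aeval_algHom_apply, ← aeval_algHom_apply, h]

theorem bijective_algebraMap_quotient :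
    Function.Bijective (algebraMap k (D ⧸ Ideal.span {τ})) := by
  constructor
  · obtain ⟨φ, hφ⟩ := exists_hom e he (0 : k) (by simp)
    have h0 : ∀ a ∈ Ideal.span {τ}, φ a = 0 := by
      intro a ha
      obtain ⟨b, rfl⟩ := Ideal.mem_span_singleton.1 ha
      simp [hφ]
    have h1 : ((Ideal.Quotient.liftₐ (Ideal.span {τ}) φ h0).comp (Algebra.ofId k (D ⧸ Ideal.span {τ}))) =
        AlgHom.id k k := by ext
    intro x y hxy
    have := congrArg (Ideal.Quotient.liftₐ (Ideal.span {τ}) φ h0) hxy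
    have h2 := AlgHom.congr_fun h1 x
    have h3 := AlgHom.congr_fun h1 y
    change _ = x at h2
    change _ = y at h3
    rw [← h2, ← h3]
    exact this
  · intro a
    obtain ⟨a, rfl⟩ := Ideal.Quotient.mk_surjective a
    obtain ⟨p, rfl⟩ := exists_aeval e he a
    refine ⟨p.coeff 0, ?_⟩
    have h1 : algebraMap k (D ⧸ Ideal.span {τ}) (p.coeff 0) =
      Ideal.Quotient.mk (Ideal.span {τ}) (algebraMap k D (p.coeff 0)) := rfl
    rw [h1, Ideal.Quotient.eq]
    rw [← Ideal.neg_mem_iff, neg_sub]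
    have h2 : aeval τ p - algebraMap k D (p.coeff 0) = τ * aeval τ p.divX := by
      have h3 := congrArg (aeval τ) (divX_mul_X_add p)
      rw [← h3, map_add, map_mul, aeval_X, aeval_C]
      ring
    rw [h2]
    exact Ideal.mul_mem_right _ _ (Ideal.mem_span_singleton_self _)

end D

variable {B : Type u} [CommRing B] [Algebra k B] [Algebra D B] [IsScalarTower k D B]

section smooth

variable [Module.Flat D B]

theorem formallySmooth (e : (k[X] ⧸ Ideal.span {(X : k[X]) ^ (n + 1)}) ≃ₐ[k] D)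
    (he : e (Ideal.Quotient.mk (Ideal.span {(X : k[X]) ^ (n + 1)}) X) = τ)
    {t : B} (ht : t = algebraMap D B τ) (hsm : Algebra.FormallySmooth k (B ⧸ Ideal.span {t})) :
    Algebra.FormallySmooth D B := by
  let ε : k ≃+* (D ⧸ Ideal.span {τ}) := RingEquiv.ofBijective _ (bijective_algebraMap_quotient e he)
  have hle : Ideal.span {τ} ≤ (Ideal.span {t}).comap (algebraMap D B) := by
    rw [Ideal.span_le, Set.singleton_subset_iff]
    change algebraMap D B τ ∈ Ideal.span {t}
    rw [ht]; exact Ideal.mem_span_singleton_self _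
  have hmap : (Ideal.span {τ}).map (algebraMap D B) = Ideal.span {t} := by
    rw [Ideal.map_span, Set.image_singleton, ht]
  rw [← RingHom.formallySmooth_algebraMap] at hsm ⊢
  refine FSNilp.formallySmooth_of_surjective_of_nilpotent (Ideal.span {τ}) ⟨n + 1, ?_⟩
    (algebraMap D B) (RingHom.flat_algebraMap_iff.2 inferInstance) (Ideal.Quotient.mk _)
    (Ideal.Quotient.mk (Ideal.span {t})) (Ideal.quotientMap _ (algebraMap D B) hle)
    Ideal.Quotient.mk_surjective Ideal.Quotient.mk_surjective ?_ Ideal.mk_ker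
    (by rw [Ideal.mk_ker, hmap]) ?_
  · rw [Ideal.span_singleton_pow, tau_pow e he, Ideal.span_singleton_zero]; rfl
  · ext x; rfl
  · have h1 : Ideal.quotientMap (Ideal.span {t}) (algebraMap D B) hle =
        (algebraMap k (B ⧸ Ideal.span {t})).comp ε.symm.toRingHom := by
      refine RingHom.ext fun x => ?_
      obtain ⟨y, rfl⟩ := ε.surjective x
      change _ = algebraMap k (B ⧸ Ideal.span {t}) (ε.symm (ε y))
      rw [RingEquiv.symm_apply_apply]
      change Ideal.Quotient.mk (Ideal.span {t}) (algebraMap D B (algebraMap k D y)) =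
        Ideal.Quotient.mk (Ideal.span {t}) (algebraMap k B y)
      rw [← IsScalarTower.algebraMap_apply]
    rw [h1]
    exact RingHom.FormallySmooth.respectsIso.2 _ ε.symm hsm

end smooth

section der

variable (B' : Type u) [CommRing B'] [Algebra B B'] [Algebra k B'] [IsScalarTower k B B']

theorem isNilpotent_of_mul_eq_zero {A : Type*} [CommRing A] (I : Ideal A)
    (h : ∀ x ∈ I, ∀ y ∈ I, x * y = 0) : IsNilpotent I := by
  refine ⟨2, ?_⟩
  rw [Ideal.zero_eq_bot, eq_bot_iff, pow_two, Ideal.mul_le]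
  exact h

/-- Extending a homomorphism to a square zero extension gives a derivation. -/
theorem exists_derivation_of_hom [Algebra.FormallySmooth D B] (φ : D →ₐ[k] TrivSqZeroExt B' B')
    (hφ : ∀ x, (φ x).fst = algebraMap B B' (algebraMap D B x)) :
    ∃ δ : Derivation k B B', ∀ x, δ (algebraMap D B x) = (φ x).snd := by
  let algE : Algebra D (TrivSqZeroExt B' B') := φ.toAlgebra
  let algB' : Algebra D B' := ((algebraMap B B').comp (algebraMap D B)).toAlgebra
  have hφa : ∀ x, algebraMap D (TrivSqZeroExt B' B') x = φ x := fun _ => rfl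
  let π : TrivSqZeroExt B' B' →ₐ[D] B' :=
    { (TrivSqZeroExt.fstHom B' B' B').toRingHom with
      commutes' := fun r => hφ r }
  have hπ : ∀ x, π x = x.fst := fun x => rfl
  let qD : B →ₐ[D] B' := { algebraMap B B' with commutes' := fun r => rfl }
  have hsurj : Function.Surjective π := fun x => ⟨TrivSqZeroExt.inl x, by simp [hπ]⟩
  have hnil : IsNilpotent (RingHom.ker (π : TrivSqZeroExt B' B' →+* B')) := by
    refine isNilpotent_of_mul_eq_zero _ ?_
    intro x hx y hy
    have hx' : x.fst = 0 := hx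
    have hy' : y.fst = 0 := hy
    change x * y = 0
    ext
    · simp [hx', hy']
    · simp [hx', hy']
  let ψ : B →ₐ[D] TrivSqZeroExt B' B' := Algebra.FormallySmooth.liftOfSurjective qD π hsurj hnil
  have hψ : ∀ b, (ψ b).fst = algebraMap B B' b := fun b =>
    Algebra.FormallySmooth.liftOfSurjective_apply qD π hsurj hnil b
  have hψD : ∀ r : D, ψ (algebraMap D B r) = φ r := fun r => by rw [AlgHom.commutes]; rfl
  have hψk : ∀ r : k, ψ (algebraMap k B r) = algebraMap k (TrivSqZeroExt B' B') r := by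
    intro r
    rw [IsScalarTower.algebraMap_apply k D B, hψD, AlgHom.commutes]
  refine ⟨Derivation.mk' { toFun := fun b => (ψ b).snd, map_add' := fun x y => ?_,
                            map_smul' := fun r x => ?_ } ?_, ?_⟩
  · rw [map_add, TrivSqZeroExt.snd_add]
  · rw [Algebra.smul_def, map_mul, hψk, ← Algebra.smul_def, TrivSqZeroExt.snd_smul]; rfl
  · intro a b
    change (ψ (a * b)).snd = a • (ψ b).snd + b • (ψ a).snd
    rw [map_mul, TrivSqZeroExt.snd_mul, hψ, hψ]
    simp only [smul_eq_mul, MulOpposite.smul_eq_mul_unop, MulOpposite.unop_op]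
    rw [Algebra.smul_def, Algebra.smul_def, mul_comm (ψ a).snd]
  · intro x
    change (ψ (algebraMap D B x)).snd = _
    rw [hψD]

theorem exists_derivation_aux [Algebra.FormallySmooth D B]
    (e : (k[X] ⧸ Ideal.span {(X : k[X]) ^ (n + 1)}) ≃ₐ[k] D)
    (he : e (Ideal.Quotient.mk (Ideal.span {(X : k[X]) ^ (n + 1)}) X) = τ)
    (h0 : algebraMap B B' (algebraMap D B τ) ^ n = 0) :
    ∃ δ : Derivation k B B', δ (algebraMap D B τ) = 1 := by
  let b := algebraMap B B' (algebraMap D B τ)
  let s : TrivSqZeroExt B' B' := TrivSqZeroExt.inl b + TrivSqZeroExt.inr 1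
  have hs1 : s.fst = b := by simp [s]
  have hs2 : s.snd = 1 := by simp [s]
  have hs : s ^ (n + 1) = 0 := by
    ext
    · rw [TrivSqZeroExt.fst_pow, hs1, pow_succ, h0, zero_mul]; rfl
    · rw [TrivSqZeroExt.snd_pow, hs1, hs2]
      simp [b, h0]
  obtain ⟨φ, hφ⟩ := exists_hom e he s hs
  have hcomp : ((TrivSqZeroExt.fstHom k B' B').comp φ) =
      ((IsScalarTower.toAlgHom k B B').comp (IsScalarTower.toAlgHom k D B)) := by
    refine hom_ext e he _ _ ?_
    change (φ τ).fst = b
    rw [hφ, hs1]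
  obtain ⟨δ, hδ⟩ := exists_derivation_of_hom B' φ (fun x => AlgHom.congr_fun hcomp x)
  exact ⟨δ, by rw [hδ, hφ, hs2]⟩

end der

/-- A `k`-derivation `δ : B → B/tⁿB` with `δ t = 1`. -/
theorem exists_derivation [Algebra.FormallySmooth D B] (e : (k[X] ⧸ Ideal.span {(X : k[X]) ^ (n + 1)}) ≃ₐ[k] D)
    (he : e (Ideal.Quotient.mk (Ideal.span {(X : k[X]) ^ (n + 1)}) X) = τ)
    {t : B} (ht : t = algebraMap D B τ) :
    ∃ δ : Derivation k B (B ⧸ Ideal.span {t ^ n}), δ t = 1 := by
  obtain ⟨δ, hδ⟩ := exists_derivation_aux (B ⧸ Ideal.span {t ^ n}) e he (by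
    rw [← ht, ← map_pow]
    exact Ideal.Quotient.eq_zero_iff_mem.2 (Ideal.mem_span_singleton_self _))
  exact ⟨δ, by rw [← hδ, ← ht]⟩

end K683.TruncPoly
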