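import Groth.Agent.Deform.K683.TruncPoly
import Mathlib.LinearAlgebra.TensorProduct.RightExactness
import Mathlib.Algebra.Module.Projective

/-!
# The exact sequence `0 → B' → B' ⊗ Ω_{B/k} → B' ⊗ Ω_{B/D} → 0`
-/

set_option autoImplicit false

universe u

open TensorProduct Polynomial KaehlerDifferential

namespace K683.TruncPoly

variable {k : Type u} [Field k] {n : ℕ} {D : Type u} [CommRing D] [Algebra k D] {τ : D}
variable {B : Type u} [CommRing B] [Algebra k B] [Algebra D B] [IsScalarTower k D B]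

theorem exists_smul_D (e : (k[X] ⧸ Ideal.span {(X : k[X]) ^ (n + 1)}) ≃ₐ[k] D)
    (he : e (Ideal.Quotient.mk (Ideal.span {(X : k[X]) ^ (n + 1)}) X) = τ)
    (x : Ω[D⁄k]) : ∃ a : D, x = a • KaehlerDifferential.D k D τ := by
  have h : x ∈ Submodule.span D (Set.range (KaehlerDifferential.D k D)) := by
    rw [KaehlerDifferential.span_range_derivation]; trivial
  induction h using Submodule.span_induction with
  | mem x hx =>
    obtain ⟨a, rfl⟩ := hx
    obtain ⟨p, rfl⟩ := exists_aeval e he a
    exact ⟨_, Derivation.map_aeval _ _ _⟩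
  | zero => exact ⟨0, by simp⟩
  | add x y _ _ hx hy =>
    obtain ⟨a, rfl⟩ := hx
    obtain ⟨b, rfl⟩ := hy
    exact ⟨a + b, by rw [add_smul]⟩
  | smul c x _ hx =>
    obtain ⟨a, rfl⟩ := hx
    exact ⟨c * a, by rw [mul_smul]⟩

theorem map_D_eq_zero {t : B} (ht : t = algebraMap D B τ) :
    KaehlerDifferential.map k D B B (KaehlerDifferential.D k B t) = 0 := by
  rw [KaehlerDifferential.map_D, ht]
  exact Derivation.map_algebraMap _ _

theorem exists_smul_of_map_eq_zero (e : (k[X] ⧸ Ideal.span {(X : k[X]) ^ (n + 1)}) ≃ₐ[k] D)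
    (he : e (Ideal.Quotient.mk (Ideal.span {(X : k[X]) ^ (n + 1)}) X) = τ)
    {t : B} (ht : t = algebraMap D B τ) (x : Ω[B⁄k]) (hx : KaehlerDifferential.map k D B B x = 0) :
    ∃ b : B, b • KaehlerDifferential.D k B t = x := by
  have h1 : x ∈ LinearMap.range (KaehlerDifferential.mapBaseChange k D B) := by
    rw [KaehlerDifferential.range_mapBaseChange]; exact hx
  obtain ⟨y, rfl⟩ := h1
  clear hx
  induction y with
  | zero => exact ⟨0, by simp⟩
  | add x y hx hy =>
    obtain ⟨a, ha⟩ := hx
    obtain ⟨b, hb⟩ := hy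
    exact ⟨a + b, by rw [add_smul, ha, hb, map_add]⟩
  | tmul b y =>
    obtain ⟨a, rfl⟩ := exists_smul_D e he y
    refine ⟨b * algebraMap D B a, ?_⟩
    rw [KaehlerDifferential.mapBaseChange_tmul, map_smul, KaehlerDifferential.map_D, ← ht, mul_smul]
    congr 1
    rw [algebraMap_smul]

theorem exact_dt (e : (k[X] ⧸ Ideal.span {(X : k[X]) ^ (n + 1)}) ≃ₐ[k] D)
    (he : e (Ideal.Quotient.mk (Ideal.span {(X : k[X]) ^ (n + 1)}) X) = τ)
    {t : B} (ht : t = algebraMap D B τ) :
    Function.Exact (LinearMap.toSpanSingleton B (Ω[B⁄k]) (KaehlerDifferential.D k B t))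
      (KaehlerDifferential.map k D B B) := by
  intro x
  constructor
  · intro h
    obtain ⟨b, hb⟩ := exists_smul_of_map_eq_zero e he ht x h
    exact ⟨b, hb⟩
  · rintro ⟨b, rfl⟩
    rw [LinearMap.toSpanSingleton_apply, map_smul, map_D_eq_zero ht, smul_zero]

section bc

variable (B' : Type u) [CommRing B'] [Algebra B B']

theorem exact_baseChange_dt (e : (k[X] ⧸ Ideal.span {(X : k[X]) ^ (n + 1)}) ≃ₐ[k] D)
    (he : e (Ideal.Quotient.mk (Ideal.span {(X : k[X]) ^ (n + 1)}) X) = τ)
    {t : B} (ht : t = algebraMap D B τ) :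
    Function.Exact (LinearMap.toSpanSingleton B' (B' ⊗[B] Ω[B⁄k])
        ((1 : B') ⊗ₜ[B] KaehlerDifferential.D k B t))
      (LinearMap.baseChange B' (KaehlerDifferential.map k D B B)) := by
  have h1 := lTensor_exact B' (exact_dt e he ht) (KaehlerDifferential.map_surjective k D B)
  intro x
  constructor
  · intro h
    obtain ⟨z, hz⟩ := (h1 x).1 h
    obtain ⟨b, rfl⟩ := (TensorProduct.rid B B').symm.surjective z
    refine ⟨b, ?_⟩
    rw [← hz]
    simp [TensorProduct.smul_tmul']
  · rintro ⟨b, rfl⟩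
    rw [LinearMap.toSpanSingleton_apply, map_smul, LinearMap.baseChange_tmul, map_D_eq_zero ht,
      tmul_zero, smul_zero]

theorem surjective_baseChange :
    Function.Surjective (LinearMap.baseChange B' (KaehlerDifferential.map k D B B)) :=
  LinearMap.lTensor_surjective B' (KaehlerDifferential.map_surjective k D B)

/-- the retraction given by a derivation -/
theorem exists_retraction [Algebra k B'] [IsScalarTower k B B'] (t : B)
    (h : ∃ δ : Derivation k B B', δ t = 1) :
    ∃ r : (B' ⊗[B] Ω[B⁄k]) →ₗ[B'] B', r ((1 : B') ⊗ₜ[B] KaehlerDifferential.D k B t) = 1 := by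
  obtain ⟨δ, hδ⟩ := h
  refine ⟨(TensorProduct.isBaseChange B Ω[B⁄k] B').lift δ.liftKaehlerDifferential, ?_⟩
  have := IsBaseChange.lift_eq (TensorProduct.isBaseChange B Ω[B⁄k] B') δ.liftKaehlerDifferential
    (KaehlerDifferential.D k B t)
  rw [Derivation.liftKaehlerDifferential_comp_D, hδ] at this
  exact this

theorem injective_of_retraction {M : Type*} [AddCommGroup M] [Module B' M] (m : M) (r : M →ₗ[B'] B')
    (h : r m = 1) : Function.Injective (LinearMap.toSpanSingleton B' M m) := by
  intro x y hxy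
  have := congrArg r hxy
  simpa [h] using this

end bc

theorem projective_of_exact {R : Type*} [CommRing R] {M N P : Type*} [AddCommGroup M] [AddCommGroup N]
    [AddCommGroup P] [Module R M] [Module R N] [Module R P] (f : M →ₗ[R] N) (g : N →ₗ[R] P)
    (hf : Function.Injective f) (hfg : Function.Exact f g) (hg : Function.Surjective g)
    [Module.Projective R M] [Module.Projective R P] : Module.Projective R N := by
  obtain ⟨s, hs⟩ := Module.projective_lifting_property g LinearMap.id hg
  exact Module.Projective.of_equiv (hfg.splitSurjectiveEquiv hf ⟨s, hs⟩).1.symm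

end K683.TruncPoly
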